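import Mathlib

set_option autoImplicit false

/-!
Norm-one pairs in a finite field (the field lemma closing the odd order proof).
-/

namespace Cfsg.Agent.AppC

open Polynomial Finset

/-- The product of the first `q` Frobenius conjugates. -/
def frobNorm {F : Type*} [Field F] (p q : ℕ) (x : F) : F := x ^ (∑ i ∈ range q, p ^ i)

theorem geom_sum_pred_mul (p q : ℕ) : (p - 1) * ∑ i ∈ range q, p ^ i = p ^ q - 1 := by
  rcases Nat.eq_zero_or_pos p with rfl | hp
  · rcases Nat.eq_zero_or_pos q with rfl | hq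
    · simp
    · simp [zero_pow hq.ne']
  · have := geom_sum_mul_of_one_le (x := p) hp q
    rw [mul_comm]; exact this

theorem geom_sum_eq_div {p : ℕ} (q : ℕ) (hp : 2 ≤ p) :
    ∑ i ∈ range q, p ^ i = (p ^ q - 1) / (p - 1) := by
  rw [← geom_sum_pred_mul, Nat.mul_div_cancel_left _ (by omega)]

variable {F : Type*} [Field F] {p q : ℕ}

theorem frobNorm_one : frobNorm p q (1 : F) = 1 := one_pow _

theorem frobNorm_inv (x : F) : frobNorm p q x⁻¹ = (frobNorm p q x)⁻¹ := inv_pow _ _

theorem frobNorm_mul (x y : F) : frobNorm p q (x * y) = frobNorm p q x * frobNorm p q y :=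
  mul_pow _ _ _

theorem frobNorm_div (x y : F) : frobNorm p q (x / y) = frobNorm p q x / frobNorm p q y :=
  div_pow _ _ _

theorem frobNorm_zero (hq : q ≠ 0) : frobNorm p q (0 : F) = 0 := by
  apply zero_pow
  intro h
  have := (Finset.sum_eq_zero_iff (s := range q) (f := fun i => p ^ i)).1 h 0 (by simp; omega)
  simp at this

/-- If `E = {a | N a = 1 ∧ N (2 - a) = 1}` is closed under inversion, then for `a ∈ E` the norm of
`1 + k (1 - a)` is `1` for every natural `k`. -/
theorem frobNorm_chain (hq : q ≠ 0)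
    (hinv : ∀ a : F, frobNorm p q a = 1 → frobNorm p q (2 - a) = 1 → frobNorm p q (2 - a⁻¹) = 1)
    (a : F) (ha : frobNorm p q a = 1) (ha2 : frobNorm p q (2 - a) = 1) (k : ℕ) :
    frobNorm p q (1 + (k : F) * (1 - a)) = 1 := by
  suffices h : ∀ k : ℕ, frobNorm p q (1 + (k : F) * (1 - a)) = 1 ∧
      frobNorm p q (1 + ((k + 1 : ℕ) : F) * (1 - a)) = 1 ∧
      frobNorm p q (2 - (1 + ((k + 1 : ℕ) : F) * (1 - a)) / (1 + (k : F) * (1 - a))) = 1 from (h k).1
  have hne : ∀ x : F, frobNorm p q x = 1 → x ≠ 0 := fun x hx h0 => by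
    rw [h0, frobNorm_zero hq] at hx; exact zero_ne_one hx
  intro k
  induction k with
  | zero =>
    refine ⟨by simp [frobNorm_one], by simpa [show (1 : F) + (1 - a) = 2 - a by ring] using ha2, ?_⟩
    have h : (2 : F) - (1 + ((0 + 1 : ℕ) : F) * (1 - a)) / (1 + ((0 : ℕ) : F) * (1 - a)) = a := by
      push_cast; simp; ring
    rw [h]; exact ha
  | succ n ih =>
    obtain ⟨he, hd, h2⟩ := ih
    have h3 := hinv _ (by rw [frobNorm_div, he, hd, div_one]) h2
    set d : F := 1 + ((n + 1 : ℕ) : F) * (1 - a) with hddef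
    set e : F := 1 + (n : F) * (1 - a) with hedef
    set f : F := 1 + ((n + 1 + 1 : ℕ) : F) * (1 - a) with hfdef
    have hd0 := hne _ hd
    have hf : (2 - (d / e)⁻¹) * d = f := by
      rw [inv_div, sub_mul, div_mul_cancel₀ _ hd0, hddef, hedef, hfdef]; push_cast; ring
    refine ⟨hd, by rw [← hf, frobNorm_mul, h3, hd, one_mul], ?_⟩
    have h : 2 - f / d = e / d := by
      rw [eq_div_iff hd0, sub_mul, div_mul_cancel₀ _ hd0, hddef, hedef, hfdef]; push_cast; ring
    rw [h, frobNorm_div, he, hd, div_one]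

/-- A finite-field lemma: such a set with an element other than `1` forces `p ≤ q`. -/
theorem le_of_frobNorm_inv_closed [CharP F p] (hp : p.Prime) (hq : q ≠ 0)
    (hinv : ∀ a : F, frobNorm p q a = 1 → frobNorm p q (2 - a) = 1 → frobNorm p q (2 - a⁻¹) = 1)
    (a : F) (ha : frobNorm p q a = 1) (ha2 : frobNorm p q (2 - a) = 1) (ha1 : a ≠ 1) : p ≤ q := by
  classical
  haveI := Fact.mk hp
  set b : F := 1 - a with hb
  have hb0 : b ≠ 0 := sub_ne_zero.2 (Ne.symm ha1)
  set P : F[X] := (∏ i ∈ range q, (C (b ^ p ^ i) * X + C 1)) - 1 with hP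
  have hfac : ∀ i, (C (b ^ p ^ i) * X + C 1 : F[X]).natDegree = 1 := fun i =>
    natDegree_linear (pow_ne_zero _ hb0)
  have hdeg : (∏ i ∈ range q, (C (b ^ p ^ i) * X + C 1 : F[X])).natDegree = q := by
    rw [natDegree_prod _ _ (fun i _ h => by have := hfac i; rw [h, natDegree_zero] at this; exact zero_ne_one this)]
    rw [Finset.sum_congr rfl (fun i _ => hfac i)]; simp
  have hdeg' : P.natDegree = q := by
    rw [hP, natDegree_sub_eq_left_of_natDegree_lt]
    · exact hdeg
    · rw [natDegree_one, hdeg]; omega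
  have hP0 : P ≠ 0 := fun h => hq (by rw [h] at hdeg'; simpa using hdeg'.symm)
  have hroot : ∀ k : ℕ, P.IsRoot (k : F) := by
    intro k
    have hk := frobNorm_chain hq hinv a ha ha2 k
    rw [frobNorm, ← Finset.prod_pow_eq_pow_sum] at hk
    simp only [IsRoot, hP, eval_sub, eval_prod, eval_add, eval_mul, eval_C, eval_X, eval_one]
    rw [sub_eq_zero]
    refine (Finset.prod_congr rfl fun i _ => ?_).trans hk
    have : ((k : F)) ^ p ^ i = k := by rw [← iterateFrobenius_def, map_natCast]
    rw [add_pow_char_pow, one_pow, mul_pow, this]; ring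
  have hinj : Set.InjOn (fun k : ℕ => (k : F)) (range p : Finset ℕ) := by
    intro x hx y hy h
    simp only [coe_range, Set.mem_Iio] at hx hy
    exact CharP.natCast_injOn_Iio F p hx hy h
  calc p = ((range p).image (fun k : ℕ => (k : F))).card := by
        rw [Finset.card_image_of_injOn hinj, card_range]
    _ ≤ P.roots.toFinset.card := by
        refine Finset.card_le_card fun x hx => ?_
        obtain ⟨k, -, rfl⟩ := Finset.mem_image.1 hx
        simpa [Multiset.mem_toFinset, mem_roots hP0] using hroot k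
    _ ≤ P.roots.card := P.roots.toFinset_card_le
    _ ≤ q := (card_roots' P).trans hdeg'.le

end Cfsg.Agent.AppC
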