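import Mathlib

set_option autoImplicit false

/-!
# The configuration of BG Appendix C: basic identities

`P ≅ (F, +)`, a subgroup `V` of `Fˣ` acting by multiplication, an abelian `p'`-subgroup `Q`
normalized by `s = pe 1`, and `y ∈ Q` such that `t = y s y⁻¹` normalizes the image of `V`.
-/

namespace Cfsg.Agent.AppC

/-- The data of the final field configuration. -/
structure RigidData (p : ℕ) (F G : Type*) [Field F] [Group G] where
  V : Subgroup Fˣ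
  pe : F → G
  pe_add : ∀ x z, pe (x + z) = pe x * pe z
  pe_inj : Function.Injective pe
  ue : V →* G
  conj : ∀ (u : V) (x : F), ue u * pe x * (ue u)⁻¹ = pe (((u : Fˣ) : F) * x)
  hfix : ∀ u : V, ((u : Fˣ) : F) ^ p = ((u : Fˣ) : F) → u = 1
  hdec : ∀ x : F, x ≠ 0 → ∃ (D : ℤ) (v : V), x = (D : F) * ((v : Fˣ) : F)
  hne : ∃ u : V, u ≠ 1
  Q : Subgroup G
  hQc : ∀ a ∈ Q, ∀ b ∈ Q, a * b = b * a
  hQp : (Nat.card Q).Coprime p
  hsQ : pe 1 ∈ Subgroup.normalizer (Q : Set G)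
  y : G
  hy : y ∈ Q
  hnorm : ∀ (k : ℤ) (u : V), ∃ u' : V,
    (y * pe 1 * y⁻¹) ^ k * ue u * ((y * pe 1 * y⁻¹) ^ k)⁻¹ = ue u'

namespace RigidData

variable {p : ℕ} {F G : Type*} [Field F] [Group G] (C : RigidData p F G)

/-- An element of `V` as a field element. -/
def vv (u : C.V) : F := ((u : Fˣ) : F)

theorem vv_inj {u v : C.V} (h : C.vv u = C.vv v) : u = v := Subtype.ext (Units.ext h)

@[simp] theorem vv_one : C.vv 1 = 1 := rfl

@[simp] theorem vv_mul (u v : C.V) : C.vv (u * v) = C.vv u * C.vv v := by simp [vv]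

@[simp] theorem vv_inv (u : C.V) : C.vv u⁻¹ = (C.vv u)⁻¹ := by simp [vv]

@[simp] theorem vv_pow (u : C.V) (n : ℕ) : C.vv (u ^ n) = C.vv u ^ n := by simp [vv]

theorem vv_ne_zero (u : C.V) : C.vv u ≠ 0 := Units.ne_zero _

def s : G := C.pe 1

def t : G := C.y * C.s * C.y⁻¹

theorem pe_zero : C.pe 0 = 1 := by
  have h := C.pe_add 0 0
  rw [add_zero] at h
  exact (left_eq_mul.mp h)

theorem pe_neg (x : F) : C.pe (-x) = (C.pe x)⁻¹ := by
  rw [eq_inv_iff_mul_eq_one, ← C.pe_add, neg_add_cancel, C.pe_zero]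

/-- `pe` as a homomorphism. -/
def peHom : Multiplicative F →* G where
  toFun x := C.pe x.toAdd
  map_one' := C.pe_zero
  map_mul' x z := C.pe_add _ _

theorem s_zpow (k : ℤ) : C.s ^ k = C.pe (k : F) := by
  have h := map_zpow C.peHom (Multiplicative.ofAdd (1 : F)) k
  rw [← ofAdd_zsmul] at h
  simpa [peHom, s, zsmul_one] using h.symm

theorem pe_comm (x z : F) : C.pe x * C.pe z = C.pe z * C.pe x := by
  rw [← C.pe_add, ← C.pe_add, add_comm]

theorem pe_pow_p [CharP F p] (x : F) : C.pe x ^ p = 1 := by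
  have h := map_pow C.peHom (Multiplicative.ofAdd x) p
  rw [← ofAdd_nsmul] at h
  simpa [peHom, nsmul_eq_mul, CharP.cast_eq_zero F p, C.pe_zero] using h.symm

theorem conj' (u : C.V) (x : F) : C.ue u * C.pe x * (C.ue u)⁻¹ = C.pe (C.vv u * x) := C.conj u x

theorem ue_mul_pe (u : C.V) (x : F) : C.ue u * C.pe x = C.pe (C.vv u * x) * C.ue u := by
  rw [← C.conj' u x, inv_mul_cancel_right]

theorem ue_inj : Function.Injective C.ue := by
  rw [injective_iff_map_eq_one]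
  intro u hu
  have h := C.conj' u 1
  rw [hu] at h
  have h1 := C.pe_inj (by simpa using h : C.pe 1 = C.pe (C.vv u))
  exact C.vv_inj h1.symm

/-! ### The group `H = P ⋊ U` -/

def h (x : F) (u : C.V) : G := C.pe x * C.ue u

theorem h_mul (x z : F) (u v : C.V) : C.h x u * C.h z v = C.h (x + C.vv u * z) (u * v) := by
  simp only [h, C.pe_add, map_mul]
  rw [show C.pe x * C.ue u * (C.pe z * C.ue v) = C.pe x * (C.ue u * C.pe z) * C.ue v by group,
    C.ue_mul_pe]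
  group

theorem h_one : C.h 0 1 = 1 := by simp [h, C.pe_zero]

theorem h_inv (x : F) (u : C.V) : (C.h x u)⁻¹ = C.h (-(C.vv u)⁻¹ * x) u⁻¹ := by
  rw [inv_eq_iff_mul_eq_one, C.h_mul, mul_inv_cancel]
  rw [show x + C.vv u * (-(C.vv u)⁻¹ * x) = 0 by field_simp [C.vv_ne_zero u]; ring, C.h_one]

theorem h_inj {x z : F} {u v : C.V} (hh : C.h x u = C.h z v) : x = z ∧ u = v := by
  have h1 : C.ue (u * v⁻¹) = C.pe (z - x) := by
    rw [map_mul, map_inv, sub_eq_add_neg, add_comm, C.pe_add, C.pe_neg]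
    simp only [h] at hh
    rw [eq_inv_mul_iff_mul_eq, ← mul_assoc, hh]; group
  have h2 := C.conj' (u * v⁻¹) 1
  rw [h1, C.pe_comm, mul_inv_cancel_right] at h2
  have h3 := C.pe_inj h2
  rw [mul_one] at h3
  have h4 : u * v⁻¹ = 1 := C.vv_inj h3.symm
  rw [h4, map_one] at h1
  refine ⟨(sub_eq_zero.1 (C.pe_inj (h1.symm.trans C.pe_zero.symm))).symm, ?_⟩
  exact mul_inv_eq_one.1 h4

def H : Subgroup G where
  carrier := {g | ∃ x u, g = C.h x u}
  one_mem' := ⟨0, 1, C.h_one.symm⟩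
  mul_mem' := by
    rintro _ _ ⟨x, u, rfl⟩ ⟨z, v, rfl⟩
    exact ⟨_, _, C.h_mul x z u v⟩
  inv_mem' := by
    rintro _ ⟨x, u, rfl⟩
    exact ⟨_, _, C.h_inv x u⟩

theorem pe_mem_H (x : F) : C.pe x ∈ C.H := ⟨x, 1, by simp [h]⟩

theorem ue_mem_H (u : C.V) : C.ue u ∈ C.H := ⟨0, u, by simp [h, C.pe_zero]⟩

theorem s_zpow_mem_H (k : ℤ) : C.s ^ k ∈ C.H := C.H.zpow_mem (C.pe_mem_H 1) k

theorem h_pow (x : F) (u : C.V) (n : ℕ) : ∃ z, C.h x u ^ n = C.h z (u ^ n) := by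
  induction n with
  | zero => exact ⟨0, by simp [C.h_one]⟩
  | succ n ih =>
    obtain ⟨z, hz⟩ := ih
    exact ⟨_, by rw [pow_succ, hz, C.h_mul, pow_succ]⟩

/-- An element of `H` of order dividing `p` lies in `P`. -/
theorem mem_P_of_pow [Fact p.Prime] [CharP F p] {g : G} (hg : g ∈ C.H) (hp : g ^ p = 1) :
    ∃ x, g = C.pe x := by
  obtain ⟨x, u, rfl⟩ := hg
  obtain ⟨z, hz⟩ := C.h_pow x u p
  rw [hp, ← C.h_one] at hz
  have h1 : C.vv u ^ p = 1 := by rw [← C.vv_pow, ← (C.h_inj hz).2, vv_one]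
  have h2 : (C.vv u - 1) ^ p = 0 := by rw [sub_pow_char, h1, one_pow, sub_self]
  have h3 : u = 1 := C.vv_inj (by rw [vv_one]; exact sub_eq_zero.1 (pow_eq_zero_iff'.1 h2).1)
  exact ⟨x, by simp [h, h3]⟩

/-! ### `Q` -/

theorem P_inter_Q [CharP F p] {x : F} (hx : C.pe x ∈ C.Q) : C.pe x = 1 := by
  have h1 : orderOf (C.pe x) ∣ p := orderOf_dvd_of_pow_eq_one (C.pe_pow_p x)
  have h2 : orderOf (C.pe x) ∣ Nat.card C.Q := Subgroup.orderOf_dvd_natCard C.Q hx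
  exact orderOf_eq_one_iff.1 (Nat.eq_one_of_dvd_coprimes C.hQp h2 h1)

def S (k : ℤ) (z : G) : G := C.s ^ k * z * (C.s ^ k)⁻¹

def op (k : ℤ) (z : G) : G := z * (C.S k z)⁻¹

theorem S_mem (k : ℤ) {z : G} (hz : z ∈ C.Q) : C.S k z ∈ C.Q :=
  (Subgroup.mem_normalizer_iff.1 ((Subgroup.normalizer (C.Q : Set G)).zpow_mem C.hsQ k) z).1 hz

theorem op_mem (k : ℤ) {z : G} (hz : z ∈ C.Q) : C.op k z ∈ C.Q :=
  C.Q.mul_mem hz (C.Q.inv_mem (C.S_mem k hz))

theorem S_mul (k : ℤ) (z w : G) : C.S k (z * w) = C.S k z * C.S k w := by simp [S]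

theorem S_inv (k : ℤ) (z : G) : C.S k z⁻¹ = (C.S k z)⁻¹ := by simp [S, mul_assoc]

theorem S_S (k l : ℤ) (z : G) : C.S k (C.S l z) = C.S (k + l) z := by
  simp only [S, zpow_add]; group

theorem S_congr {k l : ℤ} (hkl : (k : F) = (l : F)) (z : G) : C.S k z = C.S l z := by
  simp only [S, C.s_zpow, hkl]

theorem op_comm (k l : ℤ) {z : G} (hz : z ∈ C.Q) : C.op k (C.op l z) = C.op l (C.op k z) := by
  simp only [op, S_mul, S_inv, S_S, mul_inv_rev, inv_inv]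
  rw [add_comm l k]
  have hA := C.Q.inv_mem (C.S_mem l hz)
  have hB := C.Q.inv_mem (C.S_mem k hz)
  have hK := C.S_mem (k + l) hz
  rw [mul_assoc z, mul_assoc z]
  congr 1
  rw [← mul_assoc, C.hQc _ (C.Q.mul_mem hA hK) _ hB, C.hQc _ hA _ hK]

theorem t_zpow (k : ℤ) : C.t ^ k = C.y * C.s ^ k * C.y⁻¹ := conj_zpow

theorem t_s (k : ℤ) : C.t ^ k * C.s ^ (-k) = C.op k C.y := by
  rw [C.t_zpow]
  simp only [op, S]
  group

theorem hex {a b c : ℤ} (habc : a + b + c = 0) :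
    C.t ^ a * C.s ^ b * C.t ^ c = C.s ^ (-c) * C.t ^ (-b) * C.s ^ (-a) := by
  obtain rfl : c = -(a + b) := by omega
  have hq := C.hQc _ (C.Q.inv_mem (C.op_mem (a + b) C.hy)) _ (C.op_mem a C.hy)
  rw [← C.t_s, ← C.t_s] at hq
  calc C.t ^ a * C.s ^ b * C.t ^ (-(a + b))
      = C.t ^ a * C.s ^ (-a) * (C.t ^ (a + b) * C.s ^ (-(a + b)))⁻¹ := by group
    _ = (C.t ^ (a + b) * C.s ^ (-(a + b)))⁻¹ * (C.t ^ a * C.s ^ (-a)) := hq.symm
    _ = C.s ^ (- -(a + b)) * C.t ^ (-b) * C.s ^ (-a) := by group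

/-! ### The action of `t` on `V` -/

noncomputable def sig (k : ℤ) (u : C.V) : C.V := (C.hnorm k u).choose

theorem ue_sig (k : ℤ) (u : C.V) : C.t ^ k * C.ue u * (C.t ^ k)⁻¹ = C.ue (C.sig k u) :=
  (C.hnorm k u).choose_spec

theorem sig_mul (k : ℤ) (u v : C.V) : C.sig k (u * v) = C.sig k u * C.sig k v := by
  apply C.ue_inj
  rw [map_mul, ← C.ue_sig, ← C.ue_sig, ← C.ue_sig, map_mul]
  group

noncomputable def sigHom (k : ℤ) : C.V →* C.V := MonoidHom.mk' (C.sig k) (C.sig_mul k)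

theorem sig_inv (k : ℤ) (u : C.V) : C.sig k u⁻¹ = (C.sig k u)⁻¹ := map_inv (C.sigHom k) u

theorem sig_pow (k : ℤ) (u : C.V) (n : ℕ) : C.sig k (u ^ n) = C.sig k u ^ n :=
  map_pow (C.sigHom k) u n

theorem sig_sig (k l : ℤ) (u : C.V) : C.sig k (C.sig l u) = C.sig (k + l) u := by
  apply C.ue_inj
  rw [← C.ue_sig, ← C.ue_sig, ← C.ue_sig, zpow_add]
  group

@[simp] theorem sig_zero (u : C.V) : C.sig 0 u = u := by
  apply C.ue_inj
  rw [← C.ue_sig]; simp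

theorem sig_inj (k : ℤ) : Function.Injective (C.sig k) := fun u v huv => by
  have := congrArg (C.sig (-k)) huv
  simpa [sig_sig] using this

@[simp] theorem sig_one (k : ℤ) : C.sig k 1 = 1 := map_one (C.sigHom k)

theorem sig_eq_one {k : ℤ} {u : C.V} : C.sig k u = 1 ↔ u = 1 :=
  ⟨fun hu => C.sig_inj k (hu.trans (C.sig_one k).symm), fun hu => hu ▸ C.sig_one k⟩

end RigidData

end Cfsg.Agent.AppC
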