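import Cfsg.Agent.Lib.AppC.RigidMain

set_option autoImplicit false

/-!
The points `σ^k v_k` lie on a projective line with only `p - 1` admissible positions.
-/

namespace Cfsg.Agent.AppC.RigidData

variable {p : ℕ} [hp : Fact p.Prime] {F G : Type*} [Field F] [Group G] [CharP F p]
  (C : RigidData p F G)

theorem not_dvd_two_mul (hp2 : p ≠ 2) {a : ℤ} (ha : ¬(p : ℤ) ∣ a) : ¬(p : ℤ) ∣ a + a := by
  intro hd
  rw [← two_mul] at hd
  rcases (Nat.prime_iff_prime_int.1 hp.out).dvd_or_dvd hd with h | h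
  · exact hp2 ((Nat.prime_dvd_prime_iff_eq hp.out Nat.prime_two).1 (by exact_mod_cast h))
  · exact ha h

/-- `σ^a v` lies on the line through `1` and `σ^a w`, at neither of these two points. -/
theorem on_line (hp2 : p ≠ 2) (a : ℤ) {w v : C.V} {D : ℤ} (hw : w ≠ 1) (h : C.Tri w D v) :
    ∃ α γ : F, α ^ p = α ∧ γ ^ p = γ ∧ α ≠ 0 ∧ γ ≠ 0 ∧
      C.vv (C.sig a v) = α + γ * C.vv (C.sig a w) := by
  suffices hmain : ∃ α γ : F, α ^ p = α ∧ γ ^ p = γ ∧
      C.vv (C.sig a v) = α + γ * C.vv (C.sig a w) by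
    obtain ⟨α, γ, hα, hγ, he⟩ := hmain
    refine ⟨α, γ, hα, hγ, ?_, ?_, he⟩
    · rintro rfl
      rw [zero_add] at he
      have h1 : C.vv (C.sig a (v * w⁻¹)) = γ := by
        rw [C.sig_mul, C.sig_inv, vv_mul, vv_inv, he, mul_assoc,
          mul_inv_cancel₀ (C.vv_ne_zero _), mul_one]
      have h2 : C.sig a (v * w⁻¹) = 1 := C.hfix _ (by
        show C.vv _ ^ p = C.vv _
        rw [h1, hγ])
      rw [C.sig_eq_one] at h2
      exact h.inv.ne_one (inv_ne_one.2 hw) h2
    · rintro rfl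
      rw [zero_mul, add_zero] at he
      have h2 : C.sig a v = 1 := C.hfix _ (by
        show C.vv _ ^ p = C.vv _
        rw [he, hα])
      exact h.ne_one hw (C.sig_eq_one.1 h2)
  rcases eq_or_ne ((a : ℤ) : F) 0 with ha0 | ha
  · have hpe : C.sig a v = v ∧ C.sig a w = w := by
      have ht : C.t ^ a = 1 := by rw [C.t_zpow, C.s_zpow, ha0, C.pe_zero]; group
      constructor <;> apply C.ue_inj <;> rw [← C.ue_sig, ht] <;> group
    rw [hpe.1, hpe.2]
    have hD : (D : F) ≠ 0 := fun h0 => h.not_dvd hw ((CharP.intCast_eq_zero_iff F p D).1 h0)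
    refine ⟨(D : F)⁻¹, -(D : F)⁻¹, by rw [inv_pow, intCast_pow_p], ?_, ?_⟩
    · rw [neg_pow, inv_pow, intCast_pow_p, (hp.out.odd_of_ne_two hp2).neg_one_pow]; ring
    · rw [Tri] at h
      field_simp
      linear_combination -h
  have ha' : ¬(p : ℤ) ∣ a := fun hd => ha ((CharP.intCast_eq_zero_iff F p a).2 hd)
  have hc := not_dvd_two_mul hp2 ha'
  obtain ⟨D', v', h'⟩ := C.exists_tri (w := C.sig (a + a) w) (fun h1 => hw (C.sig_eq_one.1 h1))
  obtain ⟨-, π, β, hπ, hβ, e1⟩ := C.affine ha' ha' hc hw h h'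
  have h'i : C.Tri (C.sig (a + a) w⁻¹) (-D') (v' * (C.sig (a + a) w)⁻¹) := by
    rw [C.sig_inv]; exact h'.inv
  obtain ⟨-, π', β', hπ', hβ', e2⟩ := C.affine ha' ha' hc (inv_ne_one.2 hw) h.inv h'i
  set R := C.vv (C.sig a v) with hR
  set W := C.vv (C.sig a w) with hW
  set B := C.vv (C.sig (-a) v') with hB
  set c : F := ((a + a : ℤ) : F) with hcdef
  have hR0 : R ≠ 0 := C.vv_ne_zero _
  have hW0 : W ≠ 0 := C.vv_ne_zero _
  have hc0 : c ≠ 0 := fun h0 => hc ((CharP.intCast_eq_zero_iff F p _).1 h0)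
  have eW : C.sig (-a) (C.sig (a + a) w) = C.sig a w := by rw [C.sig_sig]; congr 1; ring
  rw [vv_mul, vv_inv, ← hR, ← hB] at e1
  rw [C.sig_mul, C.sig_mul, C.sig_inv, C.sig_inv, eW, vv_mul, vv_inv, vv_mul, vv_inv, vv_mul,
    vv_inv, ← hR, ← hW, ← hB] at e2
  field_simp at e1 e2
  have i1 : c = π * R + β * B := by linear_combination e1
  have i2 : c * W = π' * R + β' * B := by linear_combination e2
  have i3 : c * (β' - β * W) = (π * β' - π' * β) * R := by
    linear_combination β' * i1 - β * i2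
  have hdet : π * β' - π' * β ≠ 0 := by
    intro h0
    rw [h0, zero_mul] at i3
    have h4 : β' = β * W := sub_eq_zero.1 ((mul_eq_zero.1 i3).resolve_left hc0)
    have hWp : W ^ p ≠ W := fun h5 => hw (C.sig_eq_one.1 (C.hfix _ h5))
    rcases eq_or_ne β 0 with hb | hb
    · have hb' : β' = 0 := by rw [h4, hb, zero_mul]
      rw [hb, zero_mul, add_zero] at i1
      rw [hb', zero_mul, add_zero] at i2
      have hπ0 : π ≠ 0 := fun h6 => hc0 (by rw [i1, h6, zero_mul])
      apply hWp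
      have h6 : W = π' / π := by
        rw [eq_div_iff hπ0]
        refine mul_right_cancel₀ hR0 ?_
        linear_combination i2 - W * i1
      rw [h6, div_pow, hπ, hπ']
    · apply hWp
      have h6 : W = β' / β := by rw [eq_div_iff hb, h4]; ring
      rw [h6, div_pow, hβ, hβ']
  have hcp : c ^ p = c := intCast_pow_p _
  refine ⟨c * β' / (π * β' - π' * β), -(c * β) / (π * β' - π' * β), ?_, ?_, ?_⟩
  · rw [div_pow, mul_pow, sub_pow_char, mul_pow, mul_pow, hcp, hπ, hπ', hβ, hβ']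
  · rw [div_pow, neg_pow, (hp.out.odd_of_ne_two hp2).neg_one_pow, mul_pow, sub_pow_char, mul_pow,
      mul_pow, hcp, hπ, hπ', hβ, hβ']
    ring
  · rw [div_mul_eq_mul_div, ← add_div, eq_div_iff hdet]
    linear_combination -i3

open Polynomial in
include C in
/-- The configuration does not exist for odd `p`. -/
theorem false_of_ne_two (hp2 : p ≠ 2) : False := by
  classical
  obtain ⟨W, hW⟩ := C.hne
  have hwk : ∀ k : Fin p, C.sig (-(k : ℤ)) W ≠ 1 := fun k h => hW (C.sig_eq_one.1 h)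
  choose D v hT using fun k => C.exists_tri (hwk k)
  have eW : ∀ k : Fin p, C.sig (k : ℤ) (C.sig (-(k : ℤ)) W) = W := fun k => by
    rw [C.sig_sig, add_neg_cancel, C.sig_zero]
  have hline : ∀ k : Fin p, ∃ α γ : F, α ^ p = α ∧ γ ^ p = γ ∧ α ≠ 0 ∧ γ ≠ 0 ∧
      C.vv (C.sig (k : ℤ) (v k)) = α + γ * C.vv W := fun k => by
    have := C.on_line hp2 (k : ℤ) (hwk k) (hT k)
    rwa [eW] at this
  choose α γ hα hγ hα0 hγ0 he using hline
  set q : F[X] := X ^ (p - 1) - 1 with hq
  have hp1 : 0 < p - 1 := by have := hp.out.two_le; omega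
  have hdeg : q.natDegree = p - 1 := by rw [hq, ← map_one (Polynomial.C (R := F)), natDegree_X_pow_sub_C]
  have hmem : ∀ k ∈ (Finset.univ : Finset (Fin p)), γ k / α k ∈ q.roots.toFinset := by
    intro k _
    rw [Multiset.mem_toFinset, mem_roots (fun h0 => by rw [h0, natDegree_zero] at hdeg; omega),
      IsRoot.def, hq, eval_sub, eval_pow, eval_X, eval_one, sub_eq_zero]
    have h1 : (γ k / α k) ^ p = γ k / α k := by rw [div_pow, hα, hγ]
    rw [show p = p - 1 + 1 by omega, pow_succ] at h1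
    exact mul_eq_right₀ (div_ne_zero (hγ0 k) (hα0 k)) |>.1 h1
  have hcard : q.roots.toFinset.card < (Finset.univ : Finset (Fin p)).card := by
    rw [Finset.card_univ, Fintype.card_fin]
    calc q.roots.toFinset.card ≤ Multiset.card q.roots := Multiset.toFinset_card_le _
      _ ≤ q.natDegree := card_roots' q
      _ < p := by omega
  obtain ⟨i, -, j, -, hij, hr⟩ := Finset.exists_ne_map_eq_of_card_lt_of_maps_to hcard hmem
  have hR : C.sig (i : ℤ) (v i) = C.sig (j : ℤ) (v j) := by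
    rw [← mul_inv_eq_one]
    refine C.hfix _ ?_
    show C.vv _ ^ p = C.vv _
    have h1 : α i + γ i * C.vv W = α i / α j * (α j + γ j * C.vv W) := by
      have := hα0 i
      have := hα0 j
      field_simp at hr ⊢
      linear_combination (C.vv W) * hr
    have h2 : C.vv (C.sig (i : ℤ) (v i) * (C.sig (j : ℤ) (v j))⁻¹) = α i / α j := by
      have h3 := C.vv_ne_zero (C.sig (j : ℤ) (v j))
      rw [he j] at h3
      rw [vv_mul, vv_inv, he i, he j, h1, mul_assoc, mul_inv_cancel₀ h3, mul_one]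
    rw [h2, div_pow, hα, hα]
  set c : ℤ := (i : ℤ) - (j : ℤ) with hc
  have hcd : ¬(p : ℤ) ∣ c := by
    intro hd
    apply hij
    have h0 : c = 0 := Int.eq_zero_of_abs_lt_dvd hd (by
      have := i.isLt
      have := j.isLt
      rw [abs_lt]; omega)
    exact Fin.ext (by omega)
  have hn : ¬(p : ℤ) ∣ c + c := not_dvd_two_mul hp2 hcd
  have h' : C.Tri (C.sig (-c + (c + c)) (C.sig (-(i : ℤ)) W)) (D j) (v j) := by
    rw [C.sig_sig, show -c + (c + c) + -(i : ℤ) = -(j : ℤ) by omega]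
    exact hT j
  have hac : ¬(p : ℤ) ∣ -c + (c + c) := by
    rw [show -c + (c + c) = c by ring]; exact hcd
  obtain ⟨hμ, -⟩ := C.affine (fun h => hcd (dvd_neg.1 h)) hn hac (hwk i) (hT i) h'
  apply hμ
  have e1 : C.sig (-c) (v i) = C.sig (-c - (i : ℤ)) (C.sig (i : ℤ) (v i)) := by
    rw [C.sig_sig]; congr 1; ring
  have e2 : C.sig (-(c + c)) (v j) = C.sig (-c - (i : ℤ)) (C.sig (j : ℤ) (v j)) := by
    rw [C.sig_sig]; congr 1; omega
  rw [e1, e2, hR, inv_mul_cancel]

end Cfsg.Agent.AppC.RigidData
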