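import Cfsg.Agent.Lib.AppC.RigidNoFix

set_option autoImplicit false

/-!
The final contradiction of the field configuration for odd `p`.

For `w ∈ V \ {1}` write `1 - w = D v`.  Every double coset `H g(a, nD) H` contains `g(-n, -a D')`,
and invariance under the Frobenius automorphism forces `σ^a v` onto the projective line through
`1` and `σ^a w`.  Two of the `p` points obtained this way must coincide, which is impossible.
-/

namespace Cfsg.Agent.AppC.RigidData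

variable {p : ℕ} [hp : Fact p.Prime] {F G : Type*} [Field F] [Group G] [CharP F p]
  (C : RigidData p F G)

theorem intCast_pow_p (k : ℤ) : ((k : F)) ^ p = (k : F) := by
  have := map_intCast (frobenius F p) k
  rwa [frobenius_def] at this

/-- `1 - w = D v`. -/
def Tri (w : C.V) (D : ℤ) (v : C.V) : Prop := 1 - C.vv w = (D : F) * C.vv v

theorem exists_tri {w : C.V} (hw : w ≠ 1) : ∃ D v, C.Tri w D v :=
  C.hdec _ (sub_ne_zero.2 fun h => hw (C.vv_inj (by rw [← h, vv_one])))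

variable {C}

theorem Tri.not_dvd {w v : C.V} {D : ℤ} (h : C.Tri w D v) (hw : w ≠ 1) : ¬(p : ℤ) ∣ D := by
  intro hd
  rw [Tri, (CharP.intCast_eq_zero_iff F p D).2 hd, zero_mul, sub_eq_zero] at h
  exact hw (C.vv_inj (by rw [← h, vv_one]))

theorem Tri.pow {w v : C.V} {D : ℤ} (h : C.Tri w D v) : C.Tri (w ^ p) D (v ^ p) := by
  rw [Tri] at h ⊢
  rw [vv_pow, vv_pow, ← intCast_pow_p (F := F) D, ← mul_pow, ← h, sub_pow_char, one_pow]

theorem Tri.inv {w v : C.V} {D : ℤ} (h : C.Tri w D v) : C.Tri w⁻¹ (-D) (v * w⁻¹) := by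
  rw [Tri] at h ⊢
  have := C.vv_ne_zero w
  rw [vv_inv, vv_mul, vv_inv]
  push_cast
  field_simp
  linear_combination -h

theorem Tri.ne_one {w v : C.V} {D : ℤ} (h : C.Tri w D v) (hw : w ≠ 1) : v ≠ 1 := by
  intro hv
  rw [Tri, hv, vv_one, mul_one] at h
  apply hw
  refine C.hfix w ?_
  have h1 : C.vv w = 1 - (D : F) := by linear_combination -h
  show C.vv w ^ p = C.vv w
  rw [h1, sub_pow_char, one_pow, intCast_pow_p]

variable (C)

theorem pow_ne_one {w : C.V} (hw : w ≠ 1) : w ^ p ≠ 1 := by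
  intro h
  apply hw
  have h2 : (C.vv w - 1) ^ p = 0 := by rw [sub_pow_char, ← vv_pow, h, vv_one, one_pow, sub_self]
  exact C.vv_inj (by rw [vv_one]; exact sub_eq_zero.1 (pow_eq_zero_iff'.1 h2).1)

theorem mid_eq {w v : C.V} {D : ℤ} (h : C.Tri w D v) (a : ℤ) :
    C.s ^ (-a) * C.ue w * C.s ^ a =
      C.ue v * C.s ^ (-a * D) * (C.ue v)⁻¹ * C.ue w := by
  rw [C.s_zpow, C.s_zpow, C.s_zpow, C.conj', mul_assoc, C.ue_mul_pe, ← mul_assoc, ← C.pe_add]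
  congr 2
  rw [Tri] at h
  push_cast
  linear_combination (-(a : F)) * h

theorem line_eq {w v : C.V} {D : ℤ} (h : C.Tri w D v) (n : ℤ) :
    C.ue v * C.s ^ (n * D) * (C.ue v)⁻¹ = C.s ^ n * C.ue w * C.s ^ (-n) * (C.ue w)⁻¹ := by
  rw [C.s_zpow, C.s_zpow, C.s_zpow, C.conj',
    show C.pe (n : F) * C.ue w * C.pe ((-n : ℤ) : F) * (C.ue w)⁻¹
      = C.pe (n : F) * (C.ue w * C.pe ((-n : ℤ) : F) * (C.ue w)⁻¹) by group, C.conj', ← C.pe_add]
  congr 1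
  rw [Tri] at h
  push_cast
  linear_combination (-(n : F)) * h

noncomputable def K1 (a n : ℤ) (v v' : C.V) : G :=
  (C.ue (C.sig a v))⁻¹ * C.s ^ (a + n) * C.ue (C.sig (-n) v')

noncomputable def K2 (a n : ℤ) (w v v' : C.V) : G :=
  (C.ue (C.sig (-n) v'))⁻¹ * C.ue (C.sig a w) * C.s ^ (-(a + n)) * (C.ue (C.sig a w))⁻¹ *
    C.ue (C.sig a v)

/-- The key identity. -/
theorem key_eq {a n : ℤ} {w v v' : C.V} {D D' : ℤ} (h : C.Tri w D v)
    (h' : C.Tri (C.sig (a + n) w) D' v') :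
    C.g a (n * D) = C.K1 a n v v' * C.g (-n) (-a * D') * C.K2 a n w v v' := by
  have e1 := C.line_eq h n
  have e2 := C.mid_eq h' a
  have x1 : C.t ^ a * C.s ^ n * C.t ^ (-(a + n)) = C.s ^ (a + n) * C.t ^ (-n) * C.s ^ (-a) := by
    have := C.hex (a := a) (b := n) (c := -(a + n)) (by ring)
    rwa [neg_neg] at this
  have x2 : C.t ^ (a + n) * C.s ^ (-n) * C.t ^ (-a) = C.s ^ a * C.t ^ n * C.s ^ (-(a + n)) := by
    have := C.hex (a := a + n) (b := -n) (c := -a) (by ring)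
    rwa [neg_neg, neg_neg] at this
  have e3 : C.sig a w = C.sig (-n) (C.sig (a + n) w) := by rw [C.sig_sig]; congr 1; ring
  calc C.g a (n * D)
      = (C.ue (C.sig a v))⁻¹ * (C.t ^ a * (C.ue v * C.s ^ (n * D) * (C.ue v)⁻¹) * (C.t ^ a)⁻¹) *
          C.ue (C.sig a v) := by
        rw [← C.ue_sig]; simp only [RigidData.g]; group
    _ = (C.ue (C.sig a v))⁻¹ * (C.t ^ a * C.s ^ n * C.t ^ (-(a + n))) *
          (C.t ^ (a + n) * C.ue w * (C.t ^ (a + n))⁻¹) *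
          (C.t ^ (a + n) * C.s ^ (-n) * C.t ^ (-a)) *
          (C.t ^ a * C.ue w * (C.t ^ a)⁻¹)⁻¹ * C.ue (C.sig a v) := by
        rw [e1]; group
    _ = (C.ue (C.sig a v))⁻¹ * C.s ^ (a + n) * C.t ^ (-n) *
          (C.s ^ (-a) * C.ue (C.sig (a + n) w) * C.s ^ a) * C.t ^ n * C.s ^ (-(a + n)) *
          (C.ue (C.sig a w))⁻¹ * C.ue (C.sig a v) := by
        rw [x1, x2, C.ue_sig, C.ue_sig]; group
    _ = C.K1 a n v v' * C.g (-n) (-a * D') * C.K2 a n w v v' := by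
        rw [e2]
        simp only [K1, K2, RigidData.g, e3, neg_neg]
        rw [← C.ue_sig (-n) v', ← C.ue_sig (-n) (C.sig (a + n) w)]
        group

theorem K1_eq (a n : ℤ) (v v' : C.V) :
    C.K1 a n v v' = C.h (((a + n : ℤ) : F) * C.vv (C.sig a v)⁻¹)
      ((C.sig a v)⁻¹ * C.sig (-n) v') := by
  rw [K1, C.s_zpow, ← map_inv, RigidData.h, C.ue_mul_pe, map_mul, mul_comm (((a + n : ℤ)) : F)]
  group

theorem K2_mem (a n : ℤ) (w v v' : C.V) : C.K2 a n w v v' ∈ C.H :=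
  C.H.mul_mem (C.H.mul_mem (C.H.mul_mem (C.H.mul_mem (C.H.inv_mem (C.ue_mem_H _)) (C.ue_mem_H _))
    (C.s_zpow_mem_H _)) (C.H.inv_mem (C.ue_mem_H _))) (C.ue_mem_H _)

/-- The first coordinate of the difference element. -/
theorem delta_mem {a n : ℤ} {w v v' : C.V} {D D' : ℤ} (h : C.Tri w D v)
    (h' : C.Tri (C.sig (a + n) w) D' v') :
    let cA := ((a + n : ℤ) : F) * C.vv (C.sig a v)⁻¹
    let μ := (C.sig a v)⁻¹ * C.sig (-n) v'
    let j := C.h (cA ^ p - C.vv (μ ^ p * μ⁻¹) * cA) (μ ^ p * μ⁻¹)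
    j ∈ C.H ∧ (C.g a (n * D))⁻¹ * j * C.g a (n * D) ∈ C.H := by
  intro cA μ j
  refine ⟨⟨_, _, rfl⟩, ?_⟩
  have e := C.key_eq h h'
  have h'' : C.Tri (C.sig (a + n) (w ^ p)) D' (v' ^ p) := by rw [C.sig_pow]; exact h'.pow
  have e' := C.key_eq h.pow h''
  have hj : j = C.K1 a n (v ^ p) (v' ^ p) * (C.K1 a n v v')⁻¹ := by
    rw [C.K1_eq, C.K1_eq, C.h_inv, C.h_mul, C.sig_pow, C.sig_pow]
    have e2 : (C.sig a v ^ p)⁻¹ * C.sig (-n) v' ^ p = μ ^ p := by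
      rw [mul_pow, inv_pow]
    rw [e2, show (C.sig a v)⁻¹ * C.sig (-n) v' = μ from rfl]
    show C.h _ _ = C.h _ _
    congr 1
    simp only [cA, vv_inv, vv_pow, vv_mul, mul_pow, intCast_pow_p, inv_pow]
    ring
  set g1 := C.g a (n * D)
  set g2 := C.g (-n) (-a * D')
  have r1 : (C.K1 a n v v')⁻¹ * g1 = g2 * C.K2 a n w v v' := by rw [e]; group
  have r2 : g1⁻¹ * C.K1 a n (v ^ p) (v' ^ p) = (C.K2 a n (w ^ p) (v ^ p) (v' ^ p))⁻¹ * g2⁻¹ := by
    rw [e']; group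
  rw [hj, ← mul_assoc, mul_assoc, r1, r2,
    show (C.K2 a n (w ^ p) (v ^ p) (v' ^ p))⁻¹ * g2⁻¹ * (g2 * C.K2 a n w v v')
      = (C.K2 a n (w ^ p) (v ^ p) (v' ^ p))⁻¹ * C.K2 a n w v v' by group]
  exact C.H.mul_mem (C.H.inv_mem (C.K2_mem ..)) (C.K2_mem ..)

/-- The basic linear relation. -/
theorem affine {a n : ℤ} (ha : ¬(p : ℤ) ∣ a) (hn : ¬(p : ℤ) ∣ n) (hc : ¬(p : ℤ) ∣ a + n)
    {w v v' : C.V} {D D' : ℤ} (hw : w ≠ 1) (h : C.Tri w D v)
    (h' : C.Tri (C.sig (a + n) w) D' v') :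
    (C.sig a v)⁻¹ * C.sig (-n) v' ≠ 1 ∧
    ∃ π β : F, π ^ p = π ∧ β ^ p = β ∧
      ((a + n : ℤ) : F) * C.vv (C.sig a v)⁻¹ =
        π + β * C.vv ((C.sig a v)⁻¹ * C.sig (-n) v') := by
  set cA := ((a + n : ℤ) : F) * C.vv (C.sig a v)⁻¹ with hcA
  set μ := (C.sig a v)⁻¹ * C.sig (-n) v' with hμ
  set ν := μ ^ p * μ⁻¹ with hν
  set φ := cA ^ p - C.vv ν * cA with hφ
  have hL : ¬(p : ℤ) ∣ n * D := fun hd =>
    ((Nat.prime_iff_prime_int.1 hp.out).dvd_or_dvd hd).elim hn (h.not_dvd hw)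
  have hj := C.delta_mem h h'
  have hj2 := C.delta_mem h.pow (w := w ^ p) (a := a) (n := n) (v' := v' ^ p) (D' := D')
    (by rw [C.sig_pow]; exact h'.pow)
  simp only at hj hj2
  rw [← hcA, ← hμ, ← hν, ← hφ] at hj
  have e1 : ((a + n : ℤ) : F) * C.vv (C.sig a (v ^ p))⁻¹ = cA ^ p := by
    rw [hcA, C.sig_pow, mul_pow, intCast_pow_p, vv_inv, vv_pow, vv_inv, inv_pow]
  have e2 : (C.sig a (v ^ p))⁻¹ * C.sig (-n) (v' ^ p) = μ ^ p := by
    rw [hμ, C.sig_pow, C.sig_pow, mul_pow, inv_pow]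
  rw [e1, e2] at hj2
  have e3 : (μ ^ p) ^ p * (μ ^ p)⁻¹ = ν ^ p := by rw [← inv_pow, ← mul_pow]
  have e4 : (cA ^ p) ^ p - C.vv (ν ^ p) * cA ^ p = φ ^ p := by
    rw [vv_pow, ← mul_pow, ← sub_pow_char]
  rw [e3, e4] at hj2
  set g1 := C.g a (n * D)
  have hν1 : ν ≠ 1 := by
    intro h1
    have h2 : φ = 0 := C.no_fix ha hL (by
      have := hj.2
      rwa [h1, show C.h φ 1 = C.pe φ by simp [RigidData.h]] at this)
    rw [hφ, h1, vv_one, one_mul, sub_eq_zero, hcA, mul_pow, intCast_pow_p] at h2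
    have h3 := mul_left_cancel₀ (fun h0 => hc ((CharP.intCast_eq_zero_iff F p _).1 h0)) h2
    exact h.ne_one hw (C.sig_eq_one.1 (inv_eq_one.1 (C.hfix _ h3)))
  have hμ1 : μ ≠ 1 := fun h1 => hν1 (by rw [hν, h1]; simp)
  refine ⟨hμ1, ?_⟩
  let J : Subgroup G := C.H ⊓ C.H.map (MulAut.conj g1).toMonoidHom
  have hJ : ∀ z, z ∈ J ↔ z ∈ C.H ∧ g1⁻¹ * z * g1 ∈ C.H := fun z => by
    simp only [J, Subgroup.mem_inf, Subgroup.mem_map, MulEquiv.coe_toMonoidHom, MulAut.conj_apply]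
    refine and_congr_right fun _ => ⟨?_, fun hz => ⟨_, hz, by group⟩⟩
    rintro ⟨z', hz', rfl⟩
    simpa [mul_assoc] using hz'
  have m1 := (hJ _).2 hj
  have m2 := (hJ _).2 hj2
  have hcomm := J.mul_mem (J.mul_mem m1 m2) (J.inv_mem (J.mul_mem m2 m1))
  rw [C.h_mul, C.h_mul, C.h_inv, C.h_mul, mul_comm (ν ^ p) ν, mul_inv_cancel] at hcomm
  have h0 := C.no_fix ha hL (by
    have := ((hJ _).1 hcomm).2
    rwa [show ∀ z, C.h z 1 = C.pe z from fun z => by simp [RigidData.h]] at this)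
  have hne : (1 : F) - C.vv ν ≠ 0 :=
    sub_ne_zero.2 fun h1 => hν1 (C.vv_inj (by rw [← h1, vv_one]))
  set π := φ / (1 - C.vv ν) with hπ
  have hne' : (1 : F) - C.vv ν ^ p ≠ 0 := by
    have := pow_ne_zero p hne
    rwa [sub_pow_char, one_pow] at this
  have hπp : π ^ p = π := by
    have e5 : (1 - C.vv ν) ^ p = 1 - C.vv ν ^ p := by rw [sub_pow_char, one_pow]
    rw [hπ, div_pow, e5, div_eq_div_iff hne' hne]
    simp only [vv_mul, vv_pow] at h0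
    have := C.vv_ne_zero ν
    field_simp at h0
    linear_combination -h0
  have hφ' : φ = π * (1 - C.vv ν) := (div_mul_cancel₀ _ hne).symm
  refine ⟨π, (cA - π) / C.vv μ, hπp, ?_, by rw [div_mul_cancel₀ _ (C.vv_ne_zero _)]; ring⟩
  have h5 := C.vv_ne_zero μ
  rw [div_pow, sub_pow_char, hπp, div_eq_div_iff (pow_ne_zero p h5) h5]
  have hνμ : C.vv ν * C.vv μ = C.vv μ ^ p := by
    rw [hν, vv_mul, vv_inv, vv_pow, mul_assoc, inv_mul_cancel₀ h5, mul_one]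
  linear_combination (hφ'.symm.trans hφ).symm * C.vv μ + (cA - π) * hνμ

end Cfsg.Agent.AppC.RigidData
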