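import Cfsg.Agent.Lib.AppC.RigidBase

set_option autoImplicit false

/-!
No nontrivial element of `P` is carried into `H` by `t ^ a * s ^ L * t ^ (-a)`.
-/

namespace Cfsg.Agent.AppC.RigidData

variable {p : ℕ} [hp : Fact p.Prime] {F G : Type*} [Field F] [Group G] [CharP F p]
  (C : RigidData p F G)

theorem intCast_eq_zero_iff' (k : ℤ) : (k : F) = 0 ↔ (p : ℤ) ∣ k := CharP.intCast_eq_zero_iff F p k

theorem exists_mul_eq {k : ℤ} (hk : ¬(p : ℤ) ∣ k) (i : ℤ) :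
    ∃ j : ℕ, (((j : ℤ) * k : ℤ) : F) = (i : F) := by
  have hk' : (k : ZMod p) ≠ 0 := fun h0 => hk ((ZMod.intCast_zmod_eq_zero_iff_dvd k p).1 h0)
  refine ⟨((i : ZMod p) * (k : ZMod p)⁻¹).val, ?_⟩
  have h1 : ((((((i : ZMod p) * (k : ZMod p)⁻¹).val : ℕ) : ℤ) * k : ℤ) : ZMod p) = (i : ZMod p) := by
    push_cast
    rw [ZMod.natCast_zmod_val, inv_mul_cancel_right₀ hk']
  have h2 := congrArg (ZMod.castHom (dvd_refl p) F) h1
  simpa only [map_intCast] using h2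

/-- The root lemma: on `[Q, s]` every `op k`, `p ∤ k`, is injective modulo any invariant subgroup. -/
theorem op_root (K : Subgroup G) (hK : ∀ (j : ℤ), ∀ z ∈ K, C.S j z ∈ K) {x : G} (hx : x ∈ C.Q)
    {k : ℤ} (hk : ¬(p : ℤ) ∣ k) (hop : C.op k (C.op 1 x) ∈ K) : C.op 1 x ∈ K := by
  set z := C.op 1 x with hz
  have hzQ : z ∈ C.Q := C.op_mem 1 hx
  have h1 : ∀ j : ℕ, C.op ((j : ℤ) * k) z ∈ K := by
    intro j
    induction j with
    | zero => simp [op, S]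
    | succ j ih =>
      have h2 := K.mul_mem ih (hK ((j : ℤ) * k) _ hop)
      convert h2 using 1
      simp only [op, S_mul, S_inv, S_S]
      rw [show ((j + 1 : ℕ) : ℤ) * k = (j : ℤ) * k + k by push_cast; ring]
      group
  have h3 : ∀ i : ℤ, C.op i z ∈ K := by
    intro i
    obtain ⟨j, hj⟩ := exists_mul_eq (F := F) hk i
    have := h1 j
    simp only [op, C.S_congr hj] at this
    exact this
  have h4 : ∀ m : ℕ, z ^ m * (C.op (m : ℤ) x)⁻¹ ∈ K := by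
    intro m
    induction m with
    | zero => simp [op, S]
    | succ m ih =>
      have e : C.op ((m + 1 : ℕ) : ℤ) x = C.op (m : ℤ) x * C.S (m : ℤ) z := by
        simp only [hz, op, S_mul, S_inv, S_S]
        push_cast
        group
      have h2 := K.mul_mem ih (h3 (m : ℤ))
      convert h2 using 1
      rw [e, pow_succ, mul_inv_rev]
      have ha : (C.op (m : ℤ) x)⁻¹ ∈ C.Q := C.Q.inv_mem (C.op_mem _ hx)
      rw [mul_assoc (z ^ m) ((C.op (m : ℤ) x)⁻¹) _, C.hQc _ ha _ (C.op_mem (m : ℤ) hzQ),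
        show C.op (m : ℤ) z = z * (C.S (m : ℤ) z)⁻¹ from rfl]
      group
  have h5 : z ^ p ∈ K := by
    have := h4 p
    have hS : C.op (p : ℤ) x = 1 := by
      rw [op, C.S_congr (k := (p : ℤ)) (l := 0) (by push_cast; exact CharP.cast_eq_zero F p)]
      simp [S]
    simpa [hS] using this
  have h6 : Nat.Coprime p (orderOf z) :=
    (C.hQp.coprime_dvd_left (Subgroup.orderOf_dvd_natCard C.Q hzQ)).symm
  obtain ⟨m, hm⟩ := exists_pow_eq_self_of_coprime h6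
  rw [← hm]
  exact K.pow_mem h5 m

theorem ts_eq : C.t * C.s⁻¹ = C.op 1 C.y := by
  have := C.t_s 1
  simpa using this

theorem op_one_y_ne : C.op 1 C.y ≠ 1 := by
  intro h
  have hts : C.t = C.s := by
    rw [← C.ts_eq] at h
    exact mul_inv_eq_one.1 h
  obtain ⟨u, hu⟩ := C.hne
  have h1 := C.ue_sig 1 u
  rw [zpow_one, hts] at h1
  have h2 : C.h (1 - C.vv u) u = C.h 0 (C.sig 1 u) := by
    rw [show C.h 0 (C.sig 1 u) = C.ue (C.sig 1 u) by simp [RigidData.h, C.pe_zero], ← h1]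
    simp only [RigidData.h, s, sub_eq_add_neg, C.pe_add]
    rw [← C.pe_neg 1, show C.pe 1 * C.ue u * C.pe (-1) = C.pe 1 * (C.ue u * C.pe (-1)) by group,
      C.ue_mul_pe]
    rw [show C.vv u * -1 = -C.vv u by ring]
    group
  exact hu (C.vv_inj (by rw [vv_one]; exact (sub_eq_zero.1 (C.h_inj h2).1).symm))

/-- `t` centralizes no nontrivial element of `P`. -/
theorem t_fix {x : F} (hx : C.t * C.pe x * C.t⁻¹ = C.pe x) : x = 0 := by
  by_contra hx0
  let A : AddSubgroup F :=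
    { carrier := {z | ∃ z', C.t * C.pe z * C.t⁻¹ = C.pe z'}
      zero_mem' := ⟨0, by simp [C.pe_zero]⟩
      add_mem' := by
        rintro a b ⟨a', ha⟩ ⟨b', hb⟩
        exact ⟨a' + b', by rw [C.pe_add, C.pe_add, ← ha, ← hb]; group⟩
      neg_mem' := by
        rintro a ⟨a', ha⟩
        exact ⟨-a', by rw [C.pe_neg, C.pe_neg, ← ha]; group⟩ }
  have h1 : (1 : F) ∈ A := by
    obtain ⟨D, v, hv⟩ := C.hdec x⁻¹ (inv_ne_zero hx0)
    have h2 : C.vv v * x ∈ A := by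
      refine ⟨C.vv (C.sig 1 v) * x, ?_⟩
      rw [← C.conj', ← C.conj', ← C.ue_sig, zpow_one]
      calc C.t * (C.ue v * C.pe x * (C.ue v)⁻¹) * C.t⁻¹
          = (C.t * C.ue v * C.t⁻¹) * (C.t * C.pe x * C.t⁻¹) * (C.t * C.ue v * C.t⁻¹)⁻¹ := by group
        _ = _ := by rw [hx]
    have h3 := A.zsmul_mem h2 D
    rwa [zsmul_eq_mul, ← mul_assoc, show (D : F) * C.vv v = x⁻¹ from hv.symm,
      inv_mul_cancel₀ hx0] at h3
  obtain ⟨z', hz'⟩ := h1
  apply C.op_one_y_ne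
  have hQ1 : C.op 1 (C.op 1 C.y) ∈ C.Q := C.op_mem 1 (C.op_mem 1 C.hy)
  have heq : C.op 1 (C.op 1 C.y) = C.pe (z' - 1) := by
    rw [sub_eq_add_neg, C.pe_add, C.pe_neg, ← hz', ← C.ts_eq]
    simp only [op, S, zpow_one, s]
    group
  have h4 : C.op 1 (C.op 1 C.y) = 1 := by rw [heq] at hQ1 ⊢; exact C.P_inter_Q hQ1
  have := C.op_root ⊥ (fun j z hz => by simp [Subgroup.mem_bot.1 hz, S]) C.hy (k := 1)
    (fun hd => hp.out.not_dvd_one (by exact_mod_cast hd)) (by rw [h4]; exact Subgroup.one_mem _)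
  exact Subgroup.mem_bot.1 this

/-- The element `t ^ a * s ^ L * t ^ (-a)`. -/
def g (a L : ℤ) : G := C.t ^ a * C.s ^ L * C.t ^ (-a)

theorem no_fix {a L : ℤ} (ha : ¬(p : ℤ) ∣ a) (hL : ¬(p : ℤ) ∣ L) {x : F}
    (hx : (C.g a L)⁻¹ * C.pe x * C.g a L ∈ C.H) : x = 0 := by
  set g := C.g a L with hgdef
  have hpow : (g⁻¹ * C.pe x * g) ^ p = 1 := by
    rw [show g⁻¹ * C.pe x * g = g⁻¹ * C.pe x * g⁻¹⁻¹ by rw [inv_inv], conj_pow, C.pe_pow_p]
    group
  obtain ⟨x', hx'⟩ := C.mem_P_of_pow hx hpow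
  set q := C.op L (C.op a C.y) with hq
  have hg : g = q * C.s ^ L := by
    have e1 : q = g * C.s ^ (-L) := by
      rw [hq, ← C.t_s, hgdef]
      simp only [RigidData.g, op, S]
      group
    rw [e1]; group
  have hsx : ∀ (j : ℤ) (z : F), C.s ^ j * C.pe z = C.pe z * C.s ^ j := fun j z => by
    rw [C.s_zpow, C.pe_comm]
  have h1 : q⁻¹ * C.pe x * q = C.pe x' := by
    rw [hg] at hx'
    have : q⁻¹ * C.pe x * q = C.s ^ L * C.pe x' * (C.s ^ L)⁻¹ := by rw [← hx']; group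
    rw [this, hsx, mul_inv_cancel_right]
  have h2 : (C.S 1 q)⁻¹ * C.pe x * C.S 1 q = C.pe x' := by
    have e : C.S 1 (q⁻¹ * C.pe x * q) = C.S 1 (C.pe x') := congrArg _ h1
    have e2 : ∀ z, C.S 1 (C.pe z) = C.pe z := fun z => by
      rw [S, hsx, mul_inv_cancel_right]
    rwa [S_mul, S_mul, S_inv, e2, e2] at e
  let K : Subgroup G := C.Q ⊓ Subgroup.centralizer {C.pe x}
  have hqQ : q ∈ C.Q := C.op_mem L (C.op_mem a C.hy)
  have hKS : ∀ j : ℤ, ∀ z ∈ K, C.S j z ∈ K := by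
    rintro j z ⟨hz1, hz2⟩
    refine ⟨C.S_mem j hz1, ?_⟩
    refine Subgroup.mem_centralizer_singleton_iff.2 ?_
    replace hz2 := Subgroup.mem_centralizer_singleton_iff.1 hz2
    have e2 : C.S j (C.pe x) = C.pe x := by rw [S, hsx, mul_inv_cancel_right]
    have e := congrArg (C.S j) hz2
    rwa [S_mul, S_mul, e2] at e
  have h3 : C.op 1 q ∈ K := by
    refine ⟨C.op_mem 1 hqQ, ?_⟩
    refine Subgroup.mem_centralizer_singleton_iff.2 ?_
    rw [op]
    have e : q⁻¹ * C.pe x * q = (C.S 1 q)⁻¹ * C.pe x * C.S 1 q := h1.trans h2.symm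
    calc q * (C.S 1 q)⁻¹ * C.pe x
        = q * ((C.S 1 q)⁻¹ * C.pe x * C.S 1 q) * (C.S 1 q)⁻¹ := by group
      _ = q * (q⁻¹ * C.pe x * q) * (C.S 1 q)⁻¹ := by rw [e]
      _ = C.pe x * (q * (C.S 1 q)⁻¹) := by group
  have hyQ := C.hy
  rw [hq, C.op_comm 1 L (C.op_mem a hyQ), C.op_comm 1 a hyQ] at h3
  have h5 : C.op a (C.op 1 C.y) ∈ K := by
    rw [← C.op_comm 1 a hyQ] at h3 ⊢
    exact C.op_root K hKS (C.op_mem a hyQ) hL h3
  have h6 : C.op 1 C.y ∈ K := C.op_root K hKS hyQ ha h5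
  have h7 := Subgroup.mem_centralizer_singleton_iff.1 h6.2
  rw [← C.ts_eq] at h7
  refine C.t_fix ?_
  have h8 : C.s⁻¹ * C.pe x = C.pe x * C.s⁻¹ := by simpa using hsx (-1) x
  calc C.t * C.pe x * C.t⁻¹ = (C.t * C.s⁻¹) * C.pe x * C.s * C.t⁻¹ := by
        rw [mul_assoc C.t C.s⁻¹, h8]; group
    _ = C.pe x * (C.t * C.s⁻¹) * C.s * C.t⁻¹ := by rw [h7]
    _ = C.pe x := by group

end Cfsg.Agent.AppC.RigidData
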