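import Cfsg.Agent.Lib.AppC.Norm
import Mathlib

set_option autoImplicit false

/-!
The set `{a | N a = 1 ∧ N (2 - a) = 1}` in a field with `p ^ q` elements has an element other than `1`:
cubic polynomials for `q = 3`, additive character sums for larger `q`.
-/

namespace Cfsg.Agent.AppC

open Polynomial Finset

section Cubic

variable (p : ℕ) [Fact p.Prime]

/-- Some non-zero value is missed by `r ↦ r ^ 3 / (r ^ 2 - 1)`. -/
theorem exists_cubic_no_root (hp : p ≠ 2) :
    ∃ c : ZMod p, c ≠ 0 ∧ ∀ r : ZMod p, r ^ 3 - c * r ^ 2 + c ≠ 0 := by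
  classical
  have hp3 : 3 ≤ p := by have := (Fact.out : p.Prime).two_le; omega
  haveI : Fact (2 < p) := ⟨by omega⟩
  set D : Finset (ZMod p) := univ \ {0, 1, -1} with hD
  have hne : (1 : ZMod p) ≠ -1 := fun h => ZMod.neg_one_ne_one h.symm
  have hDc : D.card = p - 3 := by
    rw [hD, card_univ_diff, ZMod.card, card_insert_of_notMem (by simp [zero_eq_neg]),
      card_insert_of_notMem (by simp [hne]), card_singleton]
  obtain ⟨c, hc, hcD⟩ := exists_mem_notMem_of_card_lt_card
    (s := D.image fun r => r ^ 3 / (r ^ 2 - 1)) (t := univ.erase 0) (by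
      refine lt_of_le_of_lt card_image_le ?_
      rw [hDc, card_erase_of_mem (mem_univ _), card_univ, ZMod.card]; omega)
  refine ⟨c, (mem_erase.1 hc).1, fun r hr => hcD (mem_image.2 ⟨r, ?_, ?_⟩)⟩
  · simp only [hD, mem_sdiff, mem_univ, true_and, mem_insert, mem_singleton]
    rintro (rfl | rfl | rfl)
    · exact (mem_erase.1 hc).1 (by linear_combination hr)
    · exact one_ne_zero (α := ZMod p) (by linear_combination hr)
    · exact one_ne_zero (α := ZMod p) (by linear_combination -hr)
  · have h1 : r ^ 2 - 1 ≠ 0 := by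
      intro h
      have : r = 1 ∨ r = -1 := sq_eq_one_iff.1 (sub_eq_zero.1 h)
      rcases this with rfl | rfl
      · exact one_ne_zero (α := ZMod p) (by linear_combination hr)
      · exact one_ne_zero (α := ZMod p) (by linear_combination -hr)
    rw [div_eq_iff h1]; linear_combination hr

/-- The case `q = 3`. -/
theorem exists_norm_pair_three (hp : p ≠ 2) :
    ∃ a : GaloisField p 3, a ≠ 1 ∧ Algebra.norm (ZMod p) a = 1 ∧ Algebra.norm (ZMod p) (2 - a) = 1 := by
  obtain ⟨c, hc0, hc⟩ := exists_cubic_no_root p hp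
  set f : (ZMod p)[X] := X ^ 3 - C c * X ^ 2 + C c with hf
  have hmon : f.Monic := by rw [hf]; monicity!
  have hdeg : f.natDegree = 3 := by rw [hf]; compute_degree!
  have hirr : Irreducible f := by
    rw [hmon.irreducible_iff_roots_eq_zero_of_degree_le_three (by omega) (by omega)]
    refine Multiset.eq_zero_of_forall_notMem fun r hr => hc r ?_
    have := (mem_roots hmon.ne_zero).1 hr
    simpa [hf, IsRoot] using this
  have hco : f.coeff 0 = c := by simp [hf]
  haveI := Fact.mk hirr
  set pb := AdjoinRoot.powerBasis hmon.ne_zero with hpb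
  haveI : Module.Finite (ZMod p) (AdjoinRoot f) := pb.finite
  haveI : Finite (AdjoinRoot f) := Module.finite_of_finite (ZMod p)
  have hfin : Module.finrank (ZMod p) (AdjoinRoot f) = 3 := by rw [pb.finrank, hpb, AdjoinRoot.powerBasis_dim, hdeg]
  have hcard : Nat.card (AdjoinRoot f) = p ^ 3 := by
    rw [Module.natCard_eq_pow_finrank (K := ZMod p), Nat.card_zmod, hfin]
  have hmin : minpoly (ZMod p) pb.gen = f := by
    rw [hpb, AdjoinRoot.minpoly_powerBasis_gen_of_monic hmon]
  have hnorm : ∀ r : ZMod p,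
      Algebra.norm (ZMod p) (algebraMap (ZMod p) (AdjoinRoot f) r - pb.gen) = f.eval r := fun r => by
    calc _ = (Algebra.leftMulMatrix pb.basis pb.gen).charpoly.eval r := by
          rw [Algebra.norm_eq_matrix_det pb.basis, map_sub, AlgHom.commutes, Matrix.eval_charpoly,
            Matrix.algebraMap_eq_diagonal]
          rfl
      _ = f.eval r := by rw [charpoly_leftMulMatrix, hmin]
  have h1 : Algebra.norm (ZMod p) (1 - pb.gen) = 1 := by
    have := hnorm 1
    rw [map_one] at this
    rw [this]; simp [hf]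
  have h2 : Algebra.norm (ZMod p) (1 + pb.gen) = 1 := by
    have := hnorm (-1)
    rw [map_neg, map_one, show (-1 : AdjoinRoot f) - pb.gen =
      algebraMap (ZMod p) (AdjoinRoot f) (-1) * (1 + pb.gen) by rw [map_neg, map_one]; ring, map_mul,
      Algebra.norm_algebraMap, hfin] at this
    simp only [hf, eval_add, eval_sub, eval_mul, eval_pow, eval_C, eval_X] at this
    linear_combination -this
  let e := GaloisField.algEquivGaloisField p 3 hcard
  refine ⟨e (1 - pb.gen), fun h => ?_, ?_, ?_⟩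
  · have h3 : pb.gen = 0 := by
      have := e.injective (h.trans (map_one e).symm)
      linear_combination -this
    have h4 := minpoly.aeval (ZMod p) pb.gen
    rw [hmin, h3, aeval_def, eval₂_at_zero, hco] at h4
    exact hc0 ((algebraMap (ZMod p) (AdjoinRoot f)).injective (by rw [map_zero]; exact h4))
  · rw [Algebra.norm_eq_of_algEquiv e]; exact h1
  · rw [show (2 : GaloisField p 3) = e 2 from (map_ofNat e 2).symm, ← map_sub,
      Algebra.norm_eq_of_algEquiv e, show (2 : AdjoinRoot f) - (1 - pb.gen) = 1 + pb.gen by ring]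
    exact h2

end Cubic

section CharSum

variable {F : Type*} [Field F] [Fintype F] {p q : ℕ}

open Classical in
/-- The elements of norm one. -/
noncomputable def normOne (F : Type*) [Field F] [Fintype F] (p q : ℕ) : Finset F :=
  univ.filter fun x => frobNorm p q x = 1

theorem mem_normOne {x : F} : x ∈ normOne F p q ↔ frobNorm p q x = 1 := by simp [normOne]

theorem card_normOne_ge (hp : 2 ≤ p) (hF : Fintype.card F = p ^ q) :
    ∑ i ∈ range q, p ^ i ≤ (normOne F p q).card := by
  classical
  have h1 : (univ.erase (0 : F)).card ≤ (p - 1) * ((univ.erase (0 : F)).image fun x => x ^ (p - 1)).card := by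
    refine card_le_mul_card_image _ _ fun b _ => ?_
    calc ((univ.erase (0 : F)).filter fun a => a ^ (p - 1) = b).card
        ≤ (nthRoots (p - 1) b).toFinset.card := card_le_card fun a ha => by
          simp only [Multiset.mem_toFinset, mem_nthRoots (show 0 < p - 1 by omega)]
          exact (mem_filter.1 ha).2
      _ ≤ (nthRoots (p - 1) b).card := Multiset.toFinset_card_le _
      _ ≤ p - 1 := card_nthRoots _ _
  have h2 : ((univ.erase (0 : F)).image fun x => x ^ (p - 1)) ⊆ normOne F p q := by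
    intro y hy
    obtain ⟨x, hx, rfl⟩ := mem_image.1 hy
    rw [mem_normOne, frobNorm, ← pow_mul, geom_sum_pred_mul, ← hF]
    exact FiniteField.pow_card_sub_one_eq_one x (mem_erase.1 hx).1
  rw [card_erase_of_mem (mem_univ _), card_univ, hF, ← geom_sum_pred_mul] at h1
  exact Nat.le_of_mul_le_mul_left (h1.trans (Nat.mul_le_mul_left _ (card_le_card h2))) (by omega)

theorem mul_mem_normOne {x y : F} (hx : x ∈ normOne F p q) (hy : y ∈ normOne F p q) :
    x * y ∈ normOne F p q := by
  rw [mem_normOne] at *; rw [frobNorm_mul, hx, hy, one_mul]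

theorem inv_mem_normOne {x : F} (hx : x ∈ normOne F p q) : x⁻¹ ∈ normOne F p q := by
  rw [mem_normOne] at *; rw [frobNorm_inv, hx, inv_one]

open scoped ComplexConjugate

/-- `|E| ≥ 2` as soon as the main term `n ^ 2 / p ^ q` exceeds `1 + √(p ^ q)`. -/
theorem exists_normOne_pair (hq : q ≠ 0) (h2 : (2 : F) ≠ 0)
    (hbig : (Fintype.card F : ℝ) + Fintype.card F * √(Fintype.card F) < ((normOne F p q).card : ℝ) ^ 2) :
    ∃ a : F, a ≠ 1 ∧ frobNorm p q a = 1 ∧ frobNorm p q (2 - a) = 1 := by
  classical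
  by_contra hcon
  push Not at hcon
  set U := normOne F p q with hU
  set Q : ℝ := (Fintype.card F : ℝ) with hQ
  let ψ := AddChar.FiniteField.primitiveChar_to_Complex F
  have hprim : ψ.IsPrimitive := AddChar.FiniteField.primitiveChar_to_Complex_isPrimitive F
  let S : F → ℂ := fun t => ∑ u ∈ U, ψ (u * t)
  have hU0 : ∀ u ∈ U, u ≠ 0 := fun u hu h => by
    rw [h, hU, mem_normOne, frobNorm_zero hq] at hu; exact zero_ne_one hu
  have h1U : (1 : F) ∈ U := mem_normOne.2 frobNorm_one
  have hn : 0 < (U.card : ℝ) := by exact_mod_cast card_pos.2 ⟨1, h1U⟩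
  have hinv : ∀ t : F, ∀ u ∈ U, S (u * t) = S t := fun t u hu => by
    refine Finset.sum_nbij' (fun v => v * u) (fun v => v * u⁻¹) (fun v hv => mul_mem_normOne hv hu)
      (fun v hv => mul_mem_normOne hv (inv_mem_normOne hu)) (fun v _ => ?_) (fun v _ => ?_) fun v _ => ?_
    · rw [mul_assoc, mul_inv_cancel₀ (hU0 u hu), mul_one]
    · rw [mul_assoc, inv_mul_cancel₀ (hU0 u hu), mul_one]
    · rw [mul_assoc]
  have hconj : ∀ x : F, conj (ψ x) = ψ (-x) := fun x => (AddChar.map_neg_eq_conj ψ x).symm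
  -- second moment
  have hsq : ∑ t, ‖S t‖ ^ 2 = Q * U.card := by
    have h : ∑ t, S t * conj (S t) = (Fintype.card F : ℂ) * U.card := by
      simp only [S, map_sum, hconj, sum_mul_sum, ← AddChar.map_add_eq_mul]
      rw [sum_comm, sum_congr rfl fun u _ => sum_comm]
      rw [sum_congr rfl fun u hu => sum_eq_single_of_mem u hu fun v _ hne => ?_]
      · simp only [add_neg_cancel, AddChar.map_zero_eq_one, sum_const, card_univ, nsmul_eq_mul, mul_one]
        ring
      · rw [sum_congr rfl fun t _ => show ψ (u * t + -(v * t)) = ψ (t * (u - v)) by ring_nf,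
          AddChar.sum_mulShift (u - v) hprim, if_neg (sub_ne_zero.2 (Ne.symm hne)), Nat.cast_zero]
    have h' : ((∑ t, ‖S t‖ ^ 2 : ℝ) : ℂ) = ((Q * U.card : ℝ) : ℂ) := by
      push_cast
      rw [hQ, Complex.ofReal_natCast, ← h]
      exact sum_congr rfl fun t _ => (Complex.mul_conj' _).symm
    exact_mod_cast h'
  -- the bound off `0`
  have hbound : ∀ t : F, t ≠ 0 → ‖S t‖ ≤ √Q := by
    intro t ht
    refine Real.le_sqrt_of_sq_le ?_
    have : (U.card : ℝ) * ‖S t‖ ^ 2 ≤ Q * U.card := by
      calc (U.card : ℝ) * ‖S t‖ ^ 2 = ∑ u ∈ U, ‖S (u * t)‖ ^ 2 := by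
            rw [sum_congr rfl fun u hu => by rw [hinv t u hu]]; simp
        _ = ∑ x ∈ U.image (· * t), ‖S x‖ ^ 2 :=
            (sum_image (f := fun x => ‖S x‖ ^ 2) fun a _ b _ h => mul_right_cancel₀ ht h).symm
        _ ≤ Q * U.card := hsq ▸ sum_le_univ_sum_of_nonneg (fun x => sq_nonneg _)
    nlinarith
  -- counting the solutions of `u + v = 2`
  have hcount : ∑ t, S t ^ 2 * ψ (-(2 * t)) = (Fintype.card F : ℂ) := by
    simp only [S, sq, sum_mul_sum]
    simp only [sum_mul, ← AddChar.map_add_eq_mul]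
    rw [sum_comm, sum_congr rfl fun u _ => sum_comm]
    rw [sum_congr rfl fun u _ => sum_congr rfl fun v _ => (sum_congr rfl fun t _ =>
      show ψ (u * t + v * t + -(2 * t)) = ψ (t * (u + v - 2)) by ring_nf).trans
        (AddChar.sum_mulShift _ hprim)]
    rw [sum_eq_single_of_mem 1 h1U, sum_eq_single_of_mem 1 h1U, if_pos (by ring)]
    · intro v _ hne
      rw [if_neg fun h => hne (by linear_combination h), Nat.cast_zero]
    · intro u hu hne
      refine sum_eq_zero fun v hv => ?_
      rw [if_neg fun h => hcon u hne (mem_normOne.1 hu) ?_, Nat.cast_zero]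
      rw [show (2 : F) - u = v by linear_combination -h]
      exact mem_normOne.1 hv
  -- averaging the phase over `U`
  have hphase : (U.card : ℂ) * (∑ t ∈ univ.erase 0, S t ^ 2 * ψ (-(2 * t))) =
      ∑ t ∈ univ.erase 0, S t ^ 2 * S (-(2 * t)) := by
    have h : ∀ u ∈ U, ∑ t ∈ univ.erase (0 : F), S t ^ 2 * ψ (-(2 * t)) =
        ∑ t ∈ univ.erase (0 : F), S t ^ 2 * ψ (u * -(2 * t)) := by
      intro u hu
      have hu0 := hU0 u hu
      refine Finset.sum_nbij' (fun t => u⁻¹ * t) (fun t => u * t)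
        (fun t ht => mem_erase.2 ⟨mul_ne_zero (inv_ne_zero hu0) (mem_erase.1 ht).1, mem_univ _⟩)
        (fun t ht => mem_erase.2 ⟨mul_ne_zero hu0 (mem_erase.1 ht).1, mem_univ _⟩)
        (fun t _ => ?_) (fun t _ => ?_) fun t _ => ?_
      · rw [← mul_assoc, mul_inv_cancel₀ hu0, one_mul]
      · rw [← mul_assoc, inv_mul_cancel₀ hu0, one_mul]
      · rw [hinv t u⁻¹ (inv_mem_normOne hu), show u * -(2 * (u⁻¹ * t)) = -(2 * t) * (u * u⁻¹) by ring,
          mul_inv_cancel₀ hu0, mul_one]
    rw [← nsmul_eq_mul, ← sum_const, sum_congr rfl h, sum_comm]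
    exact sum_congr rfl fun t _ => by rw [← mul_sum]
  rw [← add_sum_erase _ _ (mem_univ (0 : F)), show S 0 ^ 2 * ψ (-(2 * 0)) = (U.card : ℂ) ^ 2 by
    simp [S]] at hcount
  have herr : ‖∑ t ∈ univ.erase 0, S t ^ 2 * S (-(2 * t))‖ ≤ Q * U.card * √Q := by
    refine (norm_sum_le _ _).trans ?_
    calc ∑ t ∈ univ.erase 0, ‖S t ^ 2 * S (-(2 * t))‖
        ≤ ∑ t ∈ univ.erase 0, ‖S t‖ ^ 2 * √Q := sum_le_sum fun t ht => by
          rw [norm_mul, norm_pow]
          exact mul_le_mul_of_nonneg_left
            (hbound _ (neg_ne_zero.2 (mul_ne_zero h2 (mem_erase.1 ht).1))) (sq_nonneg _)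
      _ ≤ Q * U.card * √Q := by
          rw [← sum_mul, ← hsq]
          exact mul_le_mul_of_nonneg_right (sum_le_univ_sum_of_nonneg fun x => sq_nonneg _) (Real.sqrt_nonneg _)
  rw [← hphase, show ∑ t ∈ univ.erase 0, S t ^ 2 * ψ (-(2 * t)) =
    ((Q - (U.card : ℝ) ^ 2 : ℝ) : ℂ) by rw [hQ]; push_cast; linear_combination hcount,
    norm_mul, Complex.norm_natCast, Complex.norm_real, Real.norm_eq_abs] at herr
  have habs := neg_abs_le (Q - (U.card : ℝ) ^ 2)
  nlinarith

end CharSum

end Cfsg.Agent.AppC
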